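import Cfsg.Agent.H210.Theta
import Cfsg.Agent.H894.J4TwoMain

/-!
# A character of degree 207360 of a group with the local data of the O'Nan group (helper266)

The class function `α` with the values `3 * 207360` (1), `-24` (7A), `-3` (7B), `-3` (11A), `1` (19ABC), `3` (31AB) and
`0` elsewhere is a generalized character of norm three; it is the sum of the three exceptional characters for the
prime 19, of degree `207360 = 2 ^ 9 * 3 ^ 4 * 5`.
-/

set_option autoImplicit false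

open Cfsg Subgroup
open scoped ComplexConjugate

namespace Cfsg.Agent.H266.ON3

open Cfsg.Agent.Characters.Core
open Cfsg.Agent.H653.Sieve
open Cfsg.Agent.H894.J4Two (apply_eq_of_isConj exists_col_rat exists_col_prime nc_of_card orderOf_of_card
  orderOf_eq_of_isConj isCol_unique sum_sq_comb sum_mul_comb)

universe u

variable {G : Type u} [Group G] [Finite G]

/-- the columns of the primes 11, 19, 31 and of a rational element of order 7 -/
structure Cols (G : Type u) [Group G] [Finite G] [Fintype (IrrCharacter G)] where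
  E : IrrCharacter G → ℤ
  S : IrrCharacter G → ℤ
  R : IrrCharacter G → ℤ
  PE : Subgroup G
  PS : Subgroup G
  PR : Subgroup G
  X : Finset (IrrCharacter G)
  d : ℤ
  pE : Nat.card PE = 11
  pS : Nat.card PS = 19
  pR : Nat.card PR = 31
  cE : IsCol PE 10 E
  cS : IsCol PS 6 S
  cR : IsCol PR 15 R
  qE : ∑ χ, E χ * E χ = 11
  qS : ∑ χ, S χ * S χ = 57
  qR : ∑ χ, R χ * R χ = 62
  qD : ∑ χ : IrrCharacter G, (deg χ : ℤ) * (deg χ : ℤ) = 460815505920
  dE : ∀ χ, (11 : ℤ) ∣ (deg χ : ℤ) + 10 * E χ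
  dS : ∀ χ, (19 : ℤ) ∣ (deg χ : ℤ) + 6 * S χ
  dR : ∀ χ, (31 : ℤ) ∣ (deg χ : ℤ) + 15 * R χ
  cardX : X.card = 3
  dX : ∀ χ ∈ X, S χ = d
  nX : ∀ χ ∉ X, (3 : ℤ) ∣ S χ
  eX : ∀ χ ∈ X, ∀ ψ ∈ X, ∀ g : G, ¬ 19 ∣ orderOf g → (χ : G → ℂ) g = (ψ : G → ℂ) g

theorem exists_cols [Fintype (IrrCharacter G)] (hG : Nat.card G = 460815505920)
    (h11 : ∀ Q : Subgroup G, Nat.card Q = 11 → Nat.card (centralizer (Q : Set G)) = 11 ∧
      Nat.card (normalizer (Q : Set G)) = 11 * 10)
    (h19 : ∀ Q : Subgroup G, Nat.card Q = 19 → Nat.card (centralizer (Q : Set G)) = 19 ∧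
      Nat.card (normalizer (Q : Set G)) = 19 * 6)
    (h31 : ∀ Q : Subgroup G, Nat.card Q = 31 → Nat.card (centralizer (Q : Set G)) = 31 ∧
      Nat.card (normalizer (Q : Set G)) = 31 * 15) : Nonempty (Cols G) := by
  obtain ⟨PE, E, -, -, pE, cE, -, -, -, -, qE, dE⟩ := exists_col_prime (G := G) (p := 11) (e := 10) (t := 1) (by norm_num)
    (by norm_num) (by rw [hG]; norm_num) (by rw [hG]; norm_num) (by norm_num) h11
  obtain ⟨PS, S, X, d, pS, cS, hX, hd, hn, he, qS, dS⟩ := exists_col_prime (G := G) (p := 19) (e := 6) (t := 3)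
    (by norm_num) (by norm_num) (by rw [hG]; norm_num) (by rw [hG]; norm_num) (by norm_num) h19
  obtain ⟨PR, R, -, -, pR, cR, -, -, -, -, qR, dR⟩ := exists_col_prime (G := G) (p := 31) (e := 15) (t := 2) (by norm_num)
    (by norm_num) (by rw [hG]; norm_num) (by rw [hG]; norm_num) (by norm_num) h31
  have qD : ∑ χ : IrrCharacter G, (deg χ : ℤ) * (deg χ : ℤ) = 460815505920 := by
    have h1 := SmallSimple.DegreeData.sum_sq (G := G)
    rw [hG] at h1
    have h2 : ((∑ χ : IrrCharacter G, (charDegree (χ : G → ℂ)) ^ 2 : ℕ) : ℤ) = 460815505920 := by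
      rw [h1]; norm_num
    rw [← h2]
    push_cast
    refine Finset.sum_congr rfl fun χ _ => ?_
    simp only [deg]
    ring
  exact ⟨{
    E := E
    S := S
    R := R
    PE := PE
    PS := PS
    PR := PR
    X := X
    d := d
    pE := pE
    pS := pS
    pR := pR
    cE := cE
    cS := cS
    cR := cR
    qE := by rw [qE]; norm_num
    qS := by rw [qS]; norm_num
    qR := by rw [qR]; norm_num
    qD := qD
    dE := fun χ => by exact_mod_cast dE χ
    dS := fun χ => by exact_mod_cast dS χ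
    dR := fun χ => by exact_mod_cast dR χ
    cardX := hX
    dX := hd
    nX := fun χ h => by exact_mod_cast hn χ h
    eX := he }⟩

namespace Cols

variable [Fintype (IrrCharacter G)] (C : Cols G)

include C

theorem oES : ∑ χ, C.E χ * C.S χ = 0 :=
  C.cE.orth C.cS (by norm_num) (by norm_num) (nc_of_card (by norm_num) (by norm_num) (by norm_num) C.pE C.pS)

theorem oER : ∑ χ, C.E χ * C.R χ = 0 :=
  C.cE.orth C.cR (by norm_num) (by norm_num) (nc_of_card (by norm_num) (by norm_num) (by norm_num) C.pE C.pR)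

theorem oSR : ∑ χ, C.S χ * C.R χ = 0 :=
  C.cS.orth C.cR (by norm_num) (by norm_num) (nc_of_card (by norm_num) (by norm_num) (by norm_num) C.pS C.pR)

omit C in
theorem oD {H : Subgroup G} {e : ℕ} {W : IrrCharacter G → ℤ} (hW : IsCol H e W) (he : e ≠ 0) :
    ∑ χ : IrrCharacter G, (deg χ : ℤ) * W χ = 0 := by
  rw [← hW.deg he]
  exact Finset.sum_congr rfl fun χ _ => mul_comm _ _

end Cols

/-- if all elements of `P` are conjugate to the centre then `343 ∣ D - A` : impossible -/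
theorem not_all [Fintype (IrrCharacter G)] (C : Cols G) {z : G} (oz : orderOf z = 7)
    (hz : ∀ w ∈ zpowers z, w ≠ 1 → IsConj w z) (cz : Nat.card (centralizer ({z} : Set G)) = 1372)
    (h : ∀ χ : IrrCharacter G, ∀ A : ℤ, (χ : G → ℂ) z = A → (343 : ℤ) ∣ (deg χ : ℤ) - A) : False := by
  classical
  obtain ⟨A, cA, vA, qA⟩ := exists_col_rat (p := 7) (by norm_num) oz hz
  have pA : Nat.card (zpowers z) = 7 := by rw [Nat.card_zpowers, oz]
  rw [cz] at qA
  have oo : ∀ {K : Subgroup G} {f p : ℕ} {W : IrrCharacter G → ℤ}, IsCol K f W → f ≠ 0 → p.Prime → 7 ≠ p →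
      Nat.card K = p → ∑ χ, A χ * W χ = 0 := by
    intro K f p W hW hf hp h7 hK
    exact cA.orth hW (by norm_num) hf (nc_of_card (by norm_num) hp h7 pA hK)
  have key := sum_sq_comb [((3 : ℤ), fun χ : IrrCharacter G => (deg χ : ℤ)), (-174933, A), (-606081, C.E),
    (116963, C.S), (215061, C.R)] (by
      simp only [List.pairwise_cons, List.mem_cons, List.not_mem_nil, or_false, forall_eq_or_imp, forall_eq,
        IsEmpty.forall_iff, implies_true, List.Pairwise.nil, and_true]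
      exact ⟨⟨Cols.oD cA (by norm_num), Cols.oD C.cE (by norm_num), Cols.oD C.cS (by norm_num), Cols.oD C.cR (by norm_num)⟩,
        ⟨oo C.cE (by norm_num) (by norm_num) (by norm_num) C.pE, oo C.cS (by norm_num) (by norm_num) (by norm_num) C.pS,
          oo C.cR (by norm_num) (by norm_num) (by norm_num) C.pR⟩, ⟨C.oES, C.oER⟩, C.oSR⟩)
  simp only [List.map_cons, List.map_nil, List.sum_cons, List.sum_nil] at key
  rw [C.qD, qA, C.qE, C.qS, C.qR] at key
  have hd : ∀ χ : IrrCharacter G, (2222297 : ℤ) ∣ 3 * (deg χ : ℤ) + (-174933 * A χ + (-606081 * C.E χ +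
      (116963 * C.S χ + (215061 * C.R χ + 0)))) := by
    intro χ
    obtain ⟨a, ha⟩ := h χ (A χ) (vA χ)
    obtain ⟨b, hb⟩ := C.dE χ
    obtain ⟨c, hc⟩ := C.dS χ
    obtain ⟨e, he⟩ := C.dR χ
    have d343 : (343 : ℤ) ∣ 3 * (deg χ : ℤ) + (-174933 * A χ + (-606081 * C.E χ +
        (116963 * C.S χ + (215061 * C.R χ + 0)))) :=
      ⟨3 * a - 510 * A χ + 341 * C.S χ - 1767 * C.E χ + 627 * C.R χ, by linear_combination 3 * ha⟩
    have d11 : (11 : ℤ) ∣ 3 * (deg χ : ℤ) + (-174933 * A χ + (-606081 * C.E χ +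
        (116963 * C.S χ + (215061 * C.R χ + 0)))) :=
      ⟨3 * b - 15903 * A χ - 55101 * C.E χ + 10633 * C.S χ + 19551 * C.R χ, by linear_combination 3 * hb⟩
    have d19 : (19 : ℤ) ∣ 3 * (deg χ : ℤ) + (-174933 * A χ + (-606081 * C.E χ +
        (116963 * C.S χ + (215061 * C.R χ + 0)))) :=
      ⟨3 * c - 9207 * A χ - 31899 * C.E χ + 6155 * C.S χ + 11319 * C.R χ, by linear_combination 3 * hc⟩
    have d31 : (31 : ℤ) ∣ 3 * (deg χ : ℤ) + (-174933 * A χ + (-606081 * C.E χ +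
        (116963 * C.S χ + (215061 * C.R χ + 0)))) :=
      ⟨3 * e - 5643 * A χ - 19551 * C.E χ + 3773 * C.S χ + 6936 * C.R χ, by linear_combination 3 * he⟩
    have c1 := IsCoprime.mul_dvd (by norm_num) d343 d11
    have c2 := IsCoprime.mul_dvd (by norm_num) c1 d19
    have c3 := IsCoprime.mul_dvd (by norm_num) c2 d31
    have e6 : (343 : ℤ) * 11 * 19 * 31 = 2222297 := by norm_num
    rwa [e6] at c3
  choose F hF using hd
  have h2 : ∑ χ : IrrCharacter G, (3 * (deg χ : ℤ) + (-174933 * A χ + (-606081 * C.E χ +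
      (116963 * C.S χ + (215061 * C.R χ + 0))))) * (3 * (deg χ : ℤ) + (-174933 * A χ + (-606081 * C.E χ +
      (116963 * C.S χ + (215061 * C.R χ + 0))))) = 2222297 * 2222297 * ∑ χ, F χ * F χ := by
    rw [Finset.mul_sum]
    exact Finset.sum_congr rfl fun χ _ => by rw [hF χ]; ring
  rw [h2] at key
  omega

/-- the local data -/
structure Data (G : Type u) [Group G] : Prop where
  card : Nat.card G = 460815505920
  h11 : ∀ Q : Subgroup G, Nat.card Q = 11 → Nat.card (centralizer (Q : Set G)) = 11 ∧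
    Nat.card (normalizer (Q : Set G)) = 11 * 10
  h19 : ∀ Q : Subgroup G, Nat.card Q = 19 → Nat.card (centralizer (Q : Set G)) = 19 ∧
    Nat.card (normalizer (Q : Set G)) = 19 * 6
  h31 : ∀ Q : Subgroup G, Nat.card Q = 31 → Nat.card (centralizer (Q : Set G)) = 31 ∧
    Nat.card (normalizer (Q : Set G)) = 31 * 15

/-- **the character of degree 207360** -/
theorem exists_charDegree (Δ : Data G) {z b : G} (oz : orderOf z = 7) (ob : orderOf b = 7)
    (hz : ∀ w ∈ zpowers z, w ≠ 1 → IsConj w z) (hb : ∀ w ∈ zpowers b, w ≠ 1 → IsConj w b) (hzb : ¬ IsConj z b)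
    (cz : Nat.card (centralizer ({z} : Set G)) = 1372) (cb : Nat.card (centralizer ({b} : Set G)) = 49)
    (hd : ∀ χ : IrrCharacter G, ∀ A B : ℤ, (χ : G → ℂ) z = A → (χ : G → ℂ) b = B →
      (343 : ℤ) ∣ (deg χ : ℤ) + 174 * A + 168 * B) : ∃ χ : IrrCharacter G, charDegree (χ : G → ℂ) = 207360 := by
  classical
  have := finite_irr (G := G)
  have := Fintype.ofFinite (IrrCharacter G)
  obtain ⟨C⟩ := exists_cols Δ.card Δ.h11 Δ.h19 Δ.h31
  obtain ⟨A, cA, vA, qA⟩ := exists_col_rat (p := 7) (by norm_num) oz hz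
  obtain ⟨B, cB, vB, qB⟩ := exists_col_rat (p := 7) (by norm_num) ob hb
  have pA : Nat.card (zpowers z) = 7 := by rw [Nat.card_zpowers, oz]
  have pB : Nat.card (zpowers b) = 7 := by rw [Nat.card_zpowers, ob]
  rw [cz] at qA
  rw [cb] at qB
  have oA : ∀ {K : Subgroup G} {f p : ℕ} {W : IrrCharacter G → ℤ}, IsCol K f W → f ≠ 0 → p.Prime → 7 ≠ p →
      Nat.card K = p → ∑ χ, A χ * W χ = 0 := by
    intro K f p W hW hf hp h7 hK
    exact cA.orth hW (by norm_num) hf (nc_of_card (by norm_num) hp h7 pA hK)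
  have oB : ∀ {K : Subgroup G} {f p : ℕ} {W : IrrCharacter G → ℤ}, IsCol K f W → f ≠ 0 → p.Prime → 7 ≠ p →
      Nat.card K = p → ∑ χ, B χ * W χ = 0 := by
    intro K f p W hW hf hp h7 hK
    exact cB.orth hW (by norm_num) hf (nc_of_card (by norm_num) hp h7 pB hK)
  have oAB : ∑ χ, A χ * B χ = 0 := by
    refine cA.orth cB (by norm_num) (by norm_num) fun x hx y hy hx1 hy1 h => hzb ?_
    exact ((hz x hx hx1).symm.trans h).trans (hb y hy hy1)
  let D : IrrCharacter G → ℤ := fun χ => (deg χ : ℤ)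
  have hort : (((3 : ℤ), D) :: [(-38874, A), (-136059, B), (-606081, C.E), (116963, C.S), (215061, C.R)]).Pairwise
      (fun a b => ∑ i, a.2 i * b.2 i = 0) := by
    simp only [List.pairwise_cons, List.mem_cons, List.not_mem_nil, or_false, forall_eq_or_imp, forall_eq,
      IsEmpty.forall_iff, implies_true, List.Pairwise.nil, and_true]
    exact ⟨⟨Cols.oD cA (by norm_num), Cols.oD cB (by norm_num), Cols.oD C.cE (by norm_num), Cols.oD C.cS (by norm_num),
      Cols.oD C.cR (by norm_num)⟩,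
      ⟨oAB, oA C.cE (by norm_num) (by norm_num) (by norm_num) C.pE, oA C.cS (by norm_num) (by norm_num) (by norm_num) C.pS,
        oA C.cR (by norm_num) (by norm_num) (by norm_num) C.pR⟩,
      ⟨oB C.cE (by norm_num) (by norm_num) (by norm_num) C.pE, oB C.cS (by norm_num) (by norm_num) (by norm_num) C.pS,
        oB C.cR (by norm_num) (by norm_num) (by norm_num) C.pR⟩, ⟨C.oES, C.oER⟩, C.oSR⟩
  have key := sum_sq_comb _ hort
  simp only [List.map_cons, List.map_nil, List.sum_cons, List.sum_nil] at key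
  have qD : ∑ χ, D χ * D χ = 460815505920 := C.qD
  rw [qD, qA, qB, C.qE, C.qS, C.qR] at key
  obtain ⟨Th, hTh⟩ : ∃ Th : IrrCharacter G → ℤ, ∀ χ, Th χ = 3 * D χ + (-38874 * A χ + (-136059 * B χ +
      (-606081 * C.E χ + (116963 * C.S χ + (215061 * C.R χ + 0))))) := ⟨_, fun _ => rfl⟩
  have hdvd : ∀ χ : IrrCharacter G, (2222297 : ℤ) ∣ Th χ := by
    intro χ
    rw [hTh]
    obtain ⟨a, ha⟩ := hd χ (A χ) (B χ) (vA χ) (vB χ)
    obtain ⟨b, hb⟩ := C.dE χ
    obtain ⟨c, hc⟩ := C.dS χ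
    obtain ⟨e, he⟩ := C.dR χ
    have h7A := cA.dvd χ
    have h7B := cB.dvd χ
    rw [pA] at h7A
    rw [pB] at h7B
    obtain ⟨f, hf⟩ := h7A
    obtain ⟨g, hg⟩ := h7B
    change (deg χ : ℤ) + (7 - 1 : ℕ) * A χ = (7 : ℕ) * f at hf
    change (deg χ : ℤ) + (7 - 1 : ℕ) * B χ = (7 : ℕ) * g at hg
    push_cast at hf hg
    have hAB : A χ - B χ = 7 * (A χ - B χ - f + g) := by linear_combination hg - hf
    have d343 : (343 : ℤ) ∣ 3 * D χ + (-38874 * A χ + (-136059 * B χ +
        (-606081 * C.E χ + (116963 * C.S χ + (215061 * C.R χ + 0))))) := by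
      exact ⟨3 * a - 115 * A χ - 398 * B χ + (A χ - B χ - f + g) + 341 * C.S χ - 1767 * C.E χ + 627 * C.R χ, by
        linear_combination 3 * ha + 49 * hAB⟩
    have d11 : (11 : ℤ) ∣ 3 * D χ + (-38874 * A χ + (-136059 * B χ +
        (-606081 * C.E χ + (116963 * C.S χ + (215061 * C.R χ + 0))))) :=
      ⟨3 * b - 3534 * A χ - 12369 * B χ - 55101 * C.E χ + 10633 * C.S χ + 19551 * C.R χ, by linear_combination 3 * hb⟩
    have d19 : (19 : ℤ) ∣ 3 * D χ + (-38874 * A χ + (-136059 * B χ +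
        (-606081 * C.E χ + (116963 * C.S χ + (215061 * C.R χ + 0))))) :=
      ⟨3 * c - 2046 * A χ - 7161 * B χ - 31899 * C.E χ + 6155 * C.S χ + 11319 * C.R χ, by linear_combination 3 * hc⟩
    have d31 : (31 : ℤ) ∣ 3 * D χ + (-38874 * A χ + (-136059 * B χ +
        (-606081 * C.E χ + (116963 * C.S χ + (215061 * C.R χ + 0))))) :=
      ⟨3 * e - 1254 * A χ - 4389 * B χ - 19551 * C.E χ + 3773 * C.S χ + 6936 * C.R χ, by linear_combination 3 * he⟩
    have c1 := IsCoprime.mul_dvd (by norm_num) d343 d11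
    have c2 := IsCoprime.mul_dvd (by norm_num) c1 d19
    have c3 := IsCoprime.mul_dvd (by norm_num) c2 d31
    have e6 : (343 : ℤ) * 11 * 19 * 31 = 2222297 := by norm_num
    rwa [e6] at c3
  choose v hv using hdvd
  have hsq : ∑ χ, v χ * v χ = 3 := by
    have h2 : ∑ χ, Th χ * Th χ = 2222297 * 2222297 * ∑ χ, v χ * v χ := by
      rw [Finset.mul_sum]
      exact Finset.sum_congr rfl fun χ _ => by rw [hv χ]; ring
    have h3 : ∑ χ, Th χ * Th χ = 3 * 2222297 * 2222297 := by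
      simp only [hTh]
      rw [key]
      norm_num
    rw [h3] at h2
    omega
  have hout : ∀ χ ∉ C.X, (3 : ℤ) ∣ v χ := by
    intro χ hχ
    obtain ⟨s, hs⟩ := C.nX χ hχ
    have h1 := hv χ
    rw [hTh, hs] at h1
    have h2 : (3 : ℤ) ∣ 2222297 * v χ := ⟨D χ - 12958 * A χ - 45353 * B χ - 202027 * C.E χ + 116963 * s + 71687 * C.R χ, by
      rw [← h1]; ring⟩
    exact (IsCoprime.dvd_of_dvd_mul_left (by norm_num) h2)
  have hin : ∀ χ ∈ C.X, ∀ ψ ∈ C.X, v χ = v ψ := by
    intro χ hχ ψ hψ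
    have ho : ∀ {q : ℕ}, q.Prime → q ≠ 19 → ∀ {H : Subgroup G}, Nat.card H = q → ∀ w ∈ H,
        (χ : G → ℂ) w = (ψ : G → ℂ) w := by
      intro q hq hq19 H hH w hw
      apply C.eX χ hχ ψ hψ
      intro h19
      by_cases hw1 : w = 1
      · rw [hw1, orderOf_one] at h19
        norm_num at h19
      · rw [orderOf_of_card hq hH hw hw1] at h19
        exact hq19 ((Nat.prime_dvd_prime_iff_eq (by norm_num) hq).1 h19).symm
    have eA : A χ = A ψ := isCol_unique (by norm_num) cA (ho (by norm_num) (by norm_num) pA)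
    have eB : B χ = B ψ := isCol_unique (by norm_num) cB (ho (by norm_num) (by norm_num) pB)
    have eE : C.E χ = C.E ψ := isCol_unique (by norm_num) C.cE (ho (by norm_num) (by norm_num) C.pE)
    have eR : C.R χ = C.R ψ := isCol_unique (by norm_num) C.cR (ho (by norm_num) (by norm_num) C.pR)
    have eS : C.S χ = C.S ψ := by rw [C.dX χ hχ, C.dX ψ hψ]
    have eD : D χ = D ψ := by
      have h1 := C.eX χ hχ ψ hψ 1 (by rw [orderOf_one]; norm_num)
      rw [deg_cast, deg_cast] at h1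
      have h2 : deg χ = deg ψ := by exact_mod_cast h1
      show (deg χ : ℤ) = deg ψ
      rw [h2]
    have h1 := hv χ
    rw [hTh, eD, eA, eB, eE, eS, eR, ← hTh, hv ψ] at h1
    omega
  obtain ⟨χ₀, hχ₀⟩ : C.X.Nonempty := by
    rw [← Finset.card_pos, C.cardX]; norm_num
  have hsum : ∑ χ, v χ * v χ = 3 * (v χ₀ * v χ₀) + ∑ χ ∈ Finset.univ \ C.X, v χ * v χ := by
    rw [← Finset.sum_sdiff (Finset.subset_univ C.X), add_comm]
    congr 1
    rw [Finset.sum_congr rfl (g := fun _ => v χ₀ * v χ₀) fun χ hχ => by rw [hin χ hχ χ₀ hχ₀], Finset.sum_const, C.cardX]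
    simp
  have h9 : (9 : ℤ) ∣ ∑ χ ∈ Finset.univ \ C.X, v χ * v χ := by
    refine Finset.dvd_sum fun χ hχ => ?_
    obtain ⟨k, hk⟩ := hout χ (Finset.mem_sdiff.1 hχ).2
    exact ⟨k * k, by rw [hk]; ring⟩
  have hnn : 0 ≤ ∑ χ ∈ Finset.univ \ C.X, v χ * v χ := Finset.sum_nonneg fun j _ => mul_self_nonneg _
  have hv0 : v χ₀ * v χ₀ = 1 ∧ ∑ χ ∈ Finset.univ \ C.X, v χ * v χ = 0 := by
    obtain ⟨k, hk⟩ := h9
    have h1 := mul_self_nonneg (v χ₀)
    rw [hsq, hk] at hsum
    rw [hk] at hnn ⊢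
    constructor <;> omega
  have hz0 : ∀ χ ∉ C.X, v χ = 0 := by
    intro χ hχ
    have h1 := (Finset.sum_eq_zero_iff_of_nonneg (fun j _ => mul_self_nonneg (v j))).1 hv0.2 χ
      (Finset.mem_sdiff.2 ⟨Finset.mem_univ _, hχ⟩)
    exact mul_self_eq_zero.1 h1
  have hDD : ∀ χ ∈ C.X, D χ = D χ₀ := by
    intro χ hχ
    have h1 := C.eX χ hχ χ₀ hχ₀ 1 (by rw [orderOf_one]; norm_num)
    rw [deg_cast, deg_cast] at h1
    have h2 : deg χ = deg χ₀ := by exact_mod_cast h1
    show (deg χ : ℤ) = deg χ₀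
    rw [h2]
  have hfin : 3 * (D χ₀ * (2222297 * v χ₀)) = 3 * 460815505920 := by
    have h1 : ∑ χ, D χ * Th χ = 3 * 460815505920 := by
      have hD := (List.pairwise_cons.1 hort).1
      have h2 := sum_mul_comb D [(-38874, A), (-136059, B), (-606081, C.E), (116963, C.S), (215061, C.R)]
        (fun b hb => hD b hb)
      simp only [List.map_cons, List.map_nil, List.sum_cons, List.sum_nil] at h2
      have h3 : ∀ χ, D χ * Th χ = 3 * (D χ * D χ) + D χ * (-38874 * A χ + (-136059 * B χ +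
          (-606081 * C.E χ + (116963 * C.S χ + (215061 * C.R χ + 0))))) := fun χ => by rw [hTh]; ring
      rw [Finset.sum_congr rfl fun χ _ => h3 χ, Finset.sum_add_distrib, h2, ← Finset.mul_sum, qD]
      norm_num
    rw [← h1, ← Finset.sum_sdiff (Finset.subset_univ C.X), Finset.sum_eq_zero (s := Finset.univ \ C.X), zero_add,
      Finset.sum_congr rfl (g := fun _ => D χ₀ * (2222297 * v χ₀)), Finset.sum_const, C.cardX]
    · simp
    · intro χ hχ
      rw [hv, hDD χ hχ, hin χ hχ χ₀ hχ₀]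
    · intro χ hχ
      rw [hv, hz0 χ (Finset.mem_sdiff.1 hχ).2, mul_zero, mul_zero]
  refine ⟨χ₀, ?_⟩
  have hpos : (0 : ℤ) ≤ D χ₀ := Int.natCast_nonneg _
  have h1 : v χ₀ = 1 := by
    rcases mul_self_eq_one_iff.1 hv0.1 with h | h
    · exact h
    · rw [h] at hfin
      omega
  rw [h1] at hfin
  have h2 : (deg χ₀ : ℤ) = 207360 := by
    change (3 : ℤ) * ((deg χ₀ : ℤ) * (2222297 * 1)) = _ at hfin
    omega
  exact_mod_cast h2

end Cfsg.Agent.H266.ON3
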