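import Mathlib

/-!
# The group of order 343 and exponent 7 (helper266)

`H7` : triples `(a, b, k)` over `ZMod 7` with `(a, b, k) (a', b', k') = (a + a', b + b', k + k' - a' b)`;
`phi` : the homomorphism `(a, b, k) ↦ x ^ a y ^ b c ^ k` for `x ^ 7 = y ^ 7 = c ^ 7 = 1`, `x y = c y x`, `c` central.
-/

set_option autoImplicit false

namespace Cfsg.Agent.H266.ON3

/-- the group of order 343 and exponent 7 -/
@[ext] structure H7 : Type where
  /-- the first coordinate -/
  a : ZMod 7
  /-- the second coordinate -/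
  b : ZMod 7
  /-- the central coordinate -/
  k : ZMod 7
  deriving DecidableEq

namespace H7

instance : Mul H7 := ⟨fun g h => ⟨g.a + h.a, g.b + h.b, g.k + h.k - h.a * g.b⟩⟩
instance : One H7 := ⟨⟨0, 0, 0⟩⟩
instance : Inv H7 := ⟨fun g => ⟨-g.a, -g.b, -g.k - g.a * g.b⟩⟩

theorem mul_def (g h : H7) : g * h = ⟨g.a + h.a, g.b + h.b, g.k + h.k - h.a * g.b⟩ := rfl
theorem one_def : (1 : H7) = ⟨0, 0, 0⟩ := rfl
theorem inv_def (g : H7) : g⁻¹ = ⟨-g.a, -g.b, -g.k - g.a * g.b⟩ := rfl

instance : Group H7 where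
  mul_assoc g h j := by
    simp only [mul_def]
    ext <;> ring
  one_mul g := by
    simp only [mul_def, one_def]
    ext <;> simp
  mul_one g := by
    simp only [mul_def, one_def]
    ext <;> simp
  inv_mul_cancel g := by
    simp only [mul_def, inv_def, one_def]
    ext <;> simp
    ring

/-- the coordinates -/
def equiv : H7 ≃ ZMod 7 × ZMod 7 × ZMod 7 where
  toFun g := (g.a, g.b, g.k)
  invFun g := ⟨g.1, g.2.1, g.2.2⟩
  left_inv _ := rfl
  right_inv _ := rfl

instance : Fintype H7 := Fintype.ofEquiv _ equiv.symm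

theorem card : Nat.card H7 = 343 := by
  rw [Nat.card_congr equiv, Nat.card_prod, Nat.card_prod, Nat.card_zmod]

end H7

section phi

variable {G : Type*} [Group G]

/-- powers with exponents in `ZMod 7` -/
def e (g : G) (a : ZMod 7) : G := g ^ a.val

theorem e_add {g : G} (h : g ^ 7 = 1) (a b : ZMod 7) : e g (a + b) = e g a * e g b := by
  unfold e
  rw [← pow_add, ZMod.val_add]
  conv_rhs => rw [← Nat.mod_add_div (a.val + b.val) 7, pow_add, pow_mul, h, one_pow, mul_one]

theorem e_zero (g : G) : e g 0 = 1 := by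
  unfold e
  rw [ZMod.val_zero, pow_zero]

theorem e_one (g : G) : e g 1 = g := by
  unfold e
  rw [show (1 : ZMod 7).val = 1 from rfl, pow_one]

theorem e_neg {g : G} (h : g ^ 7 = 1) (a : ZMod 7) : e g (-a) = (e g a)⁻¹ := by
  rw [eq_inv_iff_mul_eq_one, ← e_add h, neg_add_cancel, e_zero]

theorem e_nat {g : G} (h : g ^ 7 = 1) (n : ℕ) : e g (n : ZMod 7) = g ^ n := by
  unfold e
  rw [ZMod.val_natCast]
  conv_rhs => rw [← Nat.mod_add_div n 7, pow_add, pow_mul, h, one_pow, mul_one]

/-- the relations -/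
structure Rel (x y c : G) : Prop where
  x7 : x ^ 7 = 1
  y7 : y ^ 7 = 1
  c7 : c ^ 7 = 1
  cx : c * x = x * c
  cy : c * y = y * c
  xy : x * y = c * (y * x)

variable {x y c : G}

theorem Rel.yx (h : Rel x y c) (m n : ℕ) : y ^ n * x ^ m * c ^ (m * n) = x ^ m * y ^ n := by
  have h1 : ∀ m : ℕ, y * x ^ m * c ^ m = x ^ m * y := by
    intro m
    induction m with
    | zero => simp
    | succ m ih =>
      have hc : Commute (c ^ m) x := (show Commute c x from h.cx).pow_left m
      have hc1 : Commute (c ^ m) c := (Commute.refl c).pow_left m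
      calc y * x ^ (m + 1) * c ^ (m + 1) = y * (x ^ m * x) * (c ^ m * c) := by rw [pow_succ, pow_succ]
        _ = y * x ^ m * (x * c ^ m) * c := by group
        _ = y * x ^ m * (c ^ m * x) * c := by rw [hc.eq]
        _ = (y * x ^ m * c ^ m) * (x * c) := by group
        _ = x ^ m * y * (c * x) := by rw [ih, h.cx]
        _ = x ^ m * (y * c) * x := by group
        _ = x ^ m * (c * y) * x := by rw [h.cy]
        _ = x ^ m * (c * (y * x)) := by group
        _ = x ^ m * (x * y) := by rw [h.xy]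
        _ = x ^ (m + 1) * y := by rw [pow_succ]; group
  induction n with
  | zero => simp
  | succ n ih =>
    have hc : Commute (c ^ (m * n)) y := (show Commute c y from h.cy).pow_left _
    have hc2 : Commute (c ^ (m * n)) (c ^ m) := (Commute.refl c).pow_pow _ _
    calc y ^ (n + 1) * x ^ m * c ^ (m * (n + 1)) = y ^ n * y * x ^ m * c ^ (m * n + m) := by rw [pow_succ, mul_add, mul_one]
      _ = y ^ n * (y * x ^ m) * (c ^ (m * n) * c ^ m) := by rw [pow_add]; group
      _ = y ^ n * (y * x ^ m * c ^ m) * c ^ (m * n) := by rw [hc2.eq]; group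
      _ = y ^ n * (x ^ m * y) * c ^ (m * n) := by rw [h1]
      _ = y ^ n * x ^ m * (y * c ^ (m * n)) := by group
      _ = y ^ n * x ^ m * c ^ (m * n) * y := by rw [← hc.eq]; group
      _ = x ^ m * y ^ (n + 1) := by rw [ih, pow_succ, mul_assoc]

theorem Rel.eyx (h : Rel x y c) (a b : ZMod 7) : e y b * e x a = e x a * e y b * e c (-(a * b)) := by
  have h1 := h.yx a.val b.val
  have h2 : c ^ (a.val * b.val) = e c (a * b) := by
    rw [← e_nat h.c7, Nat.cast_mul, ZMod.natCast_zmod_val, ZMod.natCast_zmod_val]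
  rw [e_neg h.c7, ← h2]
  unfold e
  rw [← h1, mul_inv_cancel_right]

/-- the homomorphism -/
def phi (h : Rel x y c) : H7 →* G where
  toFun g := e x g.a * e y g.b * e c g.k
  map_one' := by
    show e x 0 * e y 0 * e c 0 = 1
    rw [e_zero, e_zero, e_zero, one_mul, one_mul]
  map_mul' g j := by
    have c1 : ∀ u v : ZMod 7, e c u * e x v = e x v * e c u := fun u v =>
      ((show Commute c x from h.cx).pow_pow _ _).eq
    have c2 : ∀ u v : ZMod 7, e c u * e y v = e y v * e c u := fun u v =>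
      ((show Commute c y from h.cy).pow_pow _ _).eq
    show e x (g.a + j.a) * e y (g.b + j.b) * e c (g.k + j.k - j.a * g.b) = _
    rw [e_add h.x7, e_add h.y7, sub_eq_add_neg, e_add h.c7, e_add h.c7]
    symm
    calc e x g.a * e y g.b * e c g.k * (e x j.a * e y j.b * e c j.k)
        = e x g.a * e y g.b * (e c g.k * e x j.a) * e y j.b * e c j.k := by group
      _ = e x g.a * e y g.b * (e x j.a * e c g.k) * e y j.b * e c j.k := by rw [c1]
      _ = e x g.a * (e y g.b * e x j.a) * (e c g.k * e y j.b) * e c j.k := by group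
      _ = e x g.a * (e x j.a * e y g.b * e c (-(j.a * g.b))) * (e y j.b * e c g.k) * e c j.k := by rw [h.eyx, c2]
      _ = e x g.a * e x j.a * e y g.b * (e c (-(j.a * g.b)) * e y j.b) * e c g.k * e c j.k := by group
      _ = e x g.a * e x j.a * e y g.b * (e y j.b * e c (-(j.a * g.b))) * e c g.k * e c j.k := by rw [c2]
      _ = e x g.a * e x j.a * (e y g.b * e y j.b) * (e c (-(j.a * g.b)) * (e c g.k * e c j.k)) := by group
      _ = e x g.a * e x j.a * (e y g.b * e y j.b) * ((e c g.k * e c j.k) * e c (-(j.a * g.b))) := by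
          have h3 : e c (-(j.a * g.b)) * (e c g.k * e c j.k) = (e c g.k * e c j.k) * e c (-(j.a * g.b)) := by
            rw [← e_add h.c7, ← e_add h.c7, ← e_add h.c7, add_comm]
          rw [h3]

theorem phi_apply (h : Rel x y c) (g : H7) : phi h g = e x g.a * e y g.b * e c g.k := rfl

theorem phi_injective (h : Rel x y c) (hc : c ≠ 1) : Function.Injective (phi h) := by
  have ho : orderOf c = 7 := by
    have : Fact (Nat.Prime 7) := ⟨by norm_num⟩
    exact orderOf_eq_prime h.c7 hc
  have hk : ∀ k : ZMod 7, e c k = 1 → k = 0 := by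
    intro k hk
    unfold e at hk
    have h1 := orderOf_dvd_of_pow_eq_one hk
    rw [ho] at h1
    have h2 := Nat.eq_zero_of_dvd_of_lt h1 (ZMod.val_lt k)
    exact (ZMod.val_eq_zero k).1 h2
  rw [injective_iff_map_eq_one]
  intro g hg
  have h1 : ∀ j : H7, phi h (g * j * g⁻¹ * j⁻¹) = 1 := by
    intro j
    rw [map_mul, map_mul, map_mul, hg, map_inv, hg]
    simp
  have h2 : ∀ j : H7, e c (g * j * g⁻¹ * j⁻¹).k = 1 := by
    intro j
    have h3 := h1 j
    rw [phi_apply] at h3
    have ha : (g * j * g⁻¹ * j⁻¹).a = 0 := by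
      simp only [H7.mul_def, H7.inv_def]; ring
    have hb : (g * j * g⁻¹ * j⁻¹).b = 0 := by
      simp only [H7.mul_def, H7.inv_def]; ring
    rw [ha, hb, e_zero, e_zero, one_mul, one_mul] at h3
    exact h3
  have hgb : g.b = 0 := by
    have h3 := hk _ (h2 ⟨1, 0, 0⟩)
    simp only [H7.mul_def, H7.inv_def] at h3
    have h4 : g.b = -(g.k + 0 - 1 * g.b + (-g.k - g.a * g.b) - -g.a * (g.b + 0) + (-0 - 1 * 0) - -1 * (g.b + 0 + -g.b)) := by
      ring
    rw [h4, h3, neg_zero]
  have hga : g.a = 0 := by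
    have h3 := hk _ (h2 ⟨0, 1, 0⟩)
    simp only [H7.mul_def, H7.inv_def] at h3
    have h4 : g.a = g.k + 0 - 0 * g.b + (-g.k - g.a * g.b) - -g.a * (g.b + 1) + (-0 - 0 * 1) - -0 * (g.b + 1 + -g.b) := by
      ring
    rw [h4, h3]
  have hgk : g.k = 0 := by
    rw [phi_apply, hga, hgb, e_zero, e_zero, one_mul, one_mul] at hg
    exact hk _ hg
  exact H7.ext hga hgb hgk

end phi

end Cfsg.Agent.H266.ON3
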